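import Groth.Agent.H18Az.EtaleSub
import Mathlib

/-!
# The algebras `A[T]/(T^p - T - g)`
-/

set_option autoImplicit false
set_option linter.style.haveILetI false
set_option linter.unusedSectionVars false
universe u

open Polynomial CategoryTheory

namespace Groth.Agent.H27ArtSch

variable {A B : Type u} [CommRing A] [CommRing B] (p : ℕ) [hp : Fact p.Prime]

/-- `T^p - T - g`. -/
noncomputable def asPoly (g : A) : A[X] := X ^ p - (X + C g)

/-- `A[T]/(T^p - T - g)`. -/
noncomputable abbrev AsAlg (g : A) : Type u := AdjoinRoot (asPoly p g)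

/-- The class of `T`. -/
noncomputable def asRoot (g : A) : AsAlg p g := AdjoinRoot.root (asPoly p g)

theorem monic_asPoly (g : A) : (asPoly p g).Monic := by
  refine monic_X_pow_sub ((degree_add_le _ _).trans_lt ?_)
  exact max_lt (degree_X_le.trans_lt (by exact_mod_cast hp.out.one_lt))
    (degree_C_le.trans_lt (by exact_mod_cast hp.out.pos))

theorem root_eq (g : A) : asRoot p g ^ p - asRoot p g = algebraMap A (AsAlg p g) g := by
  have h : AdjoinRoot.mk (asPoly p g) (X ^ p - (X + C g)) = 0 := AdjoinRoot.mk_self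
  rw [map_sub, map_add, map_pow, AdjoinRoot.mk_X, AdjoinRoot.mk_C] at h
  rw [AdjoinRoot.algebraMap_eq]
  show AdjoinRoot.root (asPoly p g) ^ p - AdjoinRoot.root (asPoly p g) = _
  linear_combination h

theorem etale (g : A) (hA : (p : A) = 0) : Algebra.Etale A (AsAlg p g) := by
  refine H18Az.EtaleSub.etale_adjoinRoot (monic_asPoly p g) ?_
  have hd : derivative (asPoly p g) = -1 := by
    simp [asPoly, derivative_X_pow, hA]
  rw [hd]
  exact ⟨0, -1, by ring⟩

theorem finite (g : A) : Module.Finite A (AsAlg p g) := (monic_asPoly p g).finite_adjoinRoot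

theorem nontrivial [Nontrivial A] (g : A) : Nontrivial (AsAlg p g) := by
  have hb := AdjoinRoot.powerBasis' (monic_asPoly p g)
  have hdeg : 0 < (asPoly p g).natDegree := by
    rw [Nat.pos_iff_ne_zero]
    intro h0
    have h1 : asPoly p g = 1 := (monic_asPoly p g).natDegree_eq_zero.1 h0
    have h2 := congrArg (fun q => coeff q p) h1
    simp [asPoly, coeff_X_pow, coeff_C, coeff_X, coeff_one, hp.out.ne_zero,
      hp.out.one_lt.ne] at h2
  exact (AdjoinRoot.powerBasis' (monic_asPoly p g)).basis.repr.toEquiv.nontrivial_congr.2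
    (by
      haveI : Nonempty (Fin (AdjoinRoot.powerBasis' (monic_asPoly p g)).dim) :=
        ⟨⟨0, by rw [AdjoinRoot.powerBasis'_dim]; exact hdeg⟩⟩
      infer_instance)

theorem algebraMap_injective (g : A) : Function.Injective (algebraMap A (AsAlg p g)) := by
  nontriviality A
  rw [injective_iff_map_eq_zero]
  intro x hx
  rw [AdjoinRoot.algebraMap_eq, ← AdjoinRoot.mk_C, AdjoinRoot.mk_eq_zero] at hx
  by_contra hne
  refine (monic_asPoly p g).not_dvd_of_degree_lt (C_ne_zero.2 hne) ?_ hx
  have hdeg : (X + C g : A[X]).degree < (p : WithBot ℕ) :=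
    (degree_add_le _ _).trans_lt (max_lt (degree_X_le.trans_lt (by exact_mod_cast hp.out.one_lt))
      (degree_C_le.trans_lt (by exact_mod_cast hp.out.pos)))
  rw [asPoly, degree_sub_eq_left_of_degree_lt (by rwa [degree_X_pow]), degree_X_pow]
  exact degree_C_le.trans_lt (by exact_mod_cast hp.out.pos)

theorem add_pow {R : Type u} [CommRing R] (hR : (p : R) = 0) (a b : R) : (a + b) ^ p = a ^ p + b ^ p := by
  obtain ⟨r, hr⟩ := exists_add_pow_prime_eq hp.out a b
  rw [hr, hR]
  ring

/-- The change of generator along a map of the base. -/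
noncomputable def asMap (φ : A →+* B) {g : A} {g' : B} (f : B) (hB : (p : B) = 0)
    (h : φ g - g' = f ^ p - f) : AsAlg p g →+* AsAlg p g' :=
  AdjoinRoot.lift ((algebraMap B (AsAlg p g')).comp φ) (asRoot p g' + algebraMap B (AsAlg p g') f) (by
    have h0 : (p : AsAlg p g') = 0 := by rw [← map_natCast (algebraMap B (AsAlg p g')), hB, map_zero]
    have h' := congrArg (algebraMap B (AsAlg p g')) h
    rw [map_sub, map_sub, map_pow] at h'
    simp only [asPoly, eval₂_sub, eval₂_add, eval₂_X_pow, eval₂_X, eval₂_C, RingHom.comp_apply, add_pow p h0]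
    linear_combination root_eq p g' - h')

theorem asMap_algebraMap (φ : A →+* B) {g : A} {g' : B} (f : B) (hB : (p : B) = 0)
    (h : φ g - g' = f ^ p - f) (a : A) :
    asMap p φ f hB h (algebraMap A (AsAlg p g) a) = algebraMap B (AsAlg p g') (φ a) := by
  rw [AdjoinRoot.algebraMap_eq]
  exact AdjoinRoot.lift_of _

theorem asMap_root (φ : A →+* B) {g : A} {g' : B} (f : B) (hB : (p : B) = 0) (h : φ g - g' = f ^ p - f) :
    asMap p φ f hB h (asRoot p g) = asRoot p g' + algebraMap B (AsAlg p g') f :=
  AdjoinRoot.lift_root _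

/-- Two maps out of the algebra agree if they agree on the base and on `T`. -/
theorem hom_ext {R : Type u} [CommRing R] {g : A} {u v : AsAlg p g →+* R}
    (h1 : ∀ a, u (algebraMap A _ a) = v (algebraMap A _ a)) (h2 : u (asRoot p g) = v (asRoot p g)) : u = v := by
  refine RingHom.ext fun x => ?_
  obtain ⟨q, rfl⟩ := AdjoinRoot.mk_surjective x
  induction q using Polynomial.induction_on' with
  | add a b ha hb => rw [map_add, map_add, map_add, ha, hb]
  | monomial n a =>
    rw [← C_mul_X_pow_eq_monomial, map_mul, map_pow, AdjoinRoot.mk_C, AdjoinRoot.mk_X,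
      ← AdjoinRoot.algebraMap_eq, map_mul, map_mul, map_pow, map_pow, h1,
      show u (AdjoinRoot.root (asPoly p g)) = v (AdjoinRoot.root (asPoly p g)) from h2]

/-- Changing the base is a pushout. -/
theorem isPushout (φ : A →+* B) {g : A} {g' : B} (f : B) (hB : (p : B) = 0) (h : φ g - g' = f ^ p - f) :
    IsPushout (CommRingCat.ofHom (algebraMap A (AsAlg p g))) (CommRingCat.ofHom φ)
      (CommRingCat.ofHom (asMap p φ f hB h)) (CommRingCat.ofHom (algebraMap B (AsAlg p g'))) := by
  have hw : CommRingCat.ofHom (algebraMap A (AsAlg p g)) ≫ CommRingCat.ofHom (asMap p φ f hB h) =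
      CommRingCat.ofHom φ ≫ CommRingCat.ofHom (algebraMap B (AsAlg p g')) :=
    CommRingCat.hom_ext (RingHom.ext (asMap_algebraMap p φ f hB h))
  let D : ∀ s : Limits.PushoutCocone (CommRingCat.ofHom (algebraMap A (AsAlg p g))) (CommRingCat.ofHom φ),
      AsAlg p g' →+* s.pt := fun s =>
    AdjoinRoot.lift s.inr.hom (s.inl.hom (asRoot p g) - s.inr.hom f) (by
      have h0 : (p : s.pt) = 0 := by rw [← map_natCast s.inr.hom, hB, map_zero]
      have hc : s.inl.hom (algebraMap A (AsAlg p g) g) = s.inr.hom (φ g) :=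
        congr($(s.condition).hom g)
      rw [← root_eq p g, map_sub, map_pow] at hc
      have h' := congrArg s.inr.hom h
      rw [map_sub, map_sub, map_pow] at h'
      have hpw := add_pow p h0 (s.inl.hom (asRoot p g) - s.inr.hom f) (s.inr.hom f)
      rw [sub_add_cancel] at hpw
      simp only [asPoly, eval₂_sub, eval₂_add, eval₂_X_pow, eval₂_X, eval₂_C]
      linear_combination hc + h' - hpw)
  have hDb : ∀ s b, D s (algebraMap B (AsAlg p g') b) = s.inr.hom b := fun s b => by
    simp only [D]
    exact AdjoinRoot.lift_of _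
  have hDr : ∀ s, D s (asRoot p g') = s.inl.hom (asRoot p g) - s.inr.hom f := fun s => by
    simp only [D]
    exact AdjoinRoot.lift_root _
  refine IsPushout.of_isColimit (Limits.PushoutCocone.IsColimit.mk hw (fun s => CommRingCat.ofHom (D s))
    (fun s => CommRingCat.hom_ext (hom_ext p (fun a => ?_) ?_))
    (fun s => CommRingCat.hom_ext (RingHom.ext fun b => hDb s b))
    (fun s m h1 h2 => CommRingCat.hom_ext (hom_ext p (fun b => ?_) ?_)))
  · show D s (asMap p φ f hB h (algebraMap A (AsAlg p g) a)) = s.inl.hom (algebraMap A (AsAlg p g) a)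
    rw [asMap_algebraMap]
    exact (hDb s _).trans congr($(s.condition).hom a).symm
  · show D s (asMap p φ f hB h (asRoot p g)) = s.inl.hom (asRoot p g)
    rw [asMap_root, map_add, hDr s,
      hDb s f, sub_add_cancel]
  · exact congr($(h2).hom b).trans (hDb s b).symm
  · refine Eq.trans ?_ (hDr s).symm
    have e1 : m.hom (asMap p φ f hB h (asRoot p g)) = s.inl.hom (asRoot p g) := congr($(h1).hom (asRoot p g))
    have e2 : m.hom (algebraMap B (AsAlg p g') f) = s.inr.hom f := congr($(h2).hom f)
    rw [asMap_root, map_add, e2] at e1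
    exact eq_sub_of_add_eq e1

end Groth.Agent.H27ArtSch
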