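import Groth.Agent.H10Coh.Affine
import Mathlib

/-!
# The cocycle on affine opens of a fixed class in `H¹`
-/

set_option autoImplicit false
set_option linter.style.haveILetI false
set_option backward.isDefEq.respectTransparency.types false
universe u

open CategoryTheory CategoryTheory.Limits Opposite TopologicalSpace Abelian AlgebraicGeometry

open Groth.Agent.H10Coh

namespace Groth.Agent.H27ArtSch

attribute [local instance 10000] hasSheafifyAb hasWeakSheafifyAb hasExtAb enoughInjAb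

variable {X : Scheme.{u}}

theorem le_iSup_affine (U : X.Opens) :
    U ≤ ⨆ W : {W : X.affineOpens // W.1 ≤ U}, W.1.1 := by
  intro x hx
  obtain ⟨W, hW, hxW, hWU⟩ := Opens.isBasis_iff_nbhd.mp X.isBasis_affineOpens hx
  exact Opens.mem_iSup.2 ⟨⟨⟨W, hW⟩, hWU⟩, hxW⟩

theorem zmap_comp {U V W : X.Opens} (h : V ≤ U) (h' : W ≤ V) :
    zmap (X := X.toTopCat) h' ≫ zmap h = zmap (h'.trans h) := by
  rw [← CohFree.freeSheafMap_comp]
  rfl

theorem zmap_comp_assoc {U V W : X.Opens} (h : V ≤ U) (h' : W ≤ V) {F : CohTop.Ab X.toTopCat} (a : Zsh U ⟶ F) :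
    zmap h' ≫ zmap h ≫ a = zmap (h'.trans h) ≫ a := by
  rw [← Category.assoc, zmap_comp]

theorem zmap_refl {U : X.Opens} {F : CohTop.Ab X.toTopCat} (h : U ≤ U) (a : Zsh U ⟶ F) :
    zmap h ≫ a = a := by
  apply (sect U F).injective
  rw [sect_res]
  exact congr($(F.obj.map_id (op U)) (sect U F a))

/-- Homs out of `ℤ_U` are determined on the affines inside `U`. -/
theorem hom_ext_affine {U : X.Opens} {F : CohTop.Ab X.toTopCat} {a b : Zsh U ⟶ F}
    (h : ∀ (W : X.affineOpens) (hW : W.1 ≤ U), zmap hW ≫ a = zmap hW ≫ b) : a = b := by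
  apply (sect U F).injective
  refine TopCat.Sheaf.eq_of_locally_eq' F (fun W : {W : X.affineOpens // W.1 ≤ U} => W.1.1) U
    (fun W => homOfLE W.2) (le_iSup_affine U) _ _ fun W => ?_
  rw [← sect_res W.2 a, ← sect_res W.2 b, h W.1 W.2]

/-- Compatible homs on all affines glue. -/
theorem exists_glue {F : CohTop.Ab X.toTopCat} (a : ∀ D : X.affineOpens, Zsh (X := X.toTopCat) D.1 ⟶ F)
    (h : ∀ (D E : X.affineOpens) (hDE : D.1 ≤ E.1), zmap hDE ≫ a E = a D) :
    ∃ b : Zsh (⊤ : X.Opens) ⟶ F, ∀ D : X.affineOpens, zmap le_top ≫ b = a D := by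
  obtain ⟨s, hs, -⟩ := TopCat.Sheaf.existsUnique_gluing' F (fun D : X.affineOpens => D.1) ⊤
    (fun D => homOfLE le_top)
    (by
      intro x hx
      obtain ⟨W, hW⟩ := Opens.mem_iSup.1 (le_iSup_affine (X := X) ⊤ hx)
      exact Opens.mem_iSup.2 ⟨W.1, hW⟩)
    (fun D => sect D.1 F (a D)) (fun D E => by
      have e : zmap (inf_le_left : D.1 ⊓ E.1 ≤ D.1) ≫ a D = zmap (inf_le_right : D.1 ⊓ E.1 ≤ E.1) ≫ a E :=
        hom_ext_affine fun W hW => by
          rw [zmap_comp_assoc, zmap_comp_assoc, h W D _, h W E _]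
      have e' := congrArg (sect (D.1 ⊓ E.1) F) e
      rw [sect_res, sect_res] at e'
      exact e')
  refine ⟨(sect ⊤ F).symm s, fun D => ?_⟩
  apply (sect D.1 F).injective
  rw [sect_res]
  exact (congrArg _ ((sect ⊤ F).apply_symm_apply s)).trans (hs D)

theorem exists_cocycle (F : CohTop.Ab X.toTopCat) (φ : F ⟶ F)
    (hvan : ∀ D : X.affineOpens, Subsingleton (Hn F 1 D.1))
    (x : Sheaf.H.{u} F 1) (hx : Sheaf.H.map φ 1 x = x) :
    ∃ (g : ∀ D : X.affineOpens, F.obj.obj (op D.1))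
      (f : ∀ D E : X.affineOpens, D.1 ≤ E.1 → F.obj.obj (op D.1)),
      (∀ (D E : X.affineOpens) (h : D.1 ≤ E.1),
        F.obj.map (homOfLE h).op (g E) - g D = φ.hom.app (op D.1) (f D E h) - f D E h) ∧
      (∀ (D E G : X.affineOpens) (h₁ : D.1 ≤ E.1) (h₂ : E.1 ≤ G.1),
        f D G (h₁.trans h₂) = F.obj.map (homOfLE h₁).op (f E G h₂) + f D E h₁) ∧
      ((∃ t : ∀ D : X.affineOpens, F.obj.obj (op D.1), ∀ (D E : X.affineOpens) (h : D.1 ≤ E.1),
        F.obj.map (homOfLE h).op (t E) - t D = f D E h) → x = 0) := by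
  classical
  set S := injSeq F with hSdef
  have hS : S.ShortExact := injSeq_shortExact F
  haveI : Mono S.f := hS.mono_f
  haveI : Injective S.X₂ := injSeq_injective F
  let Φ : S.X₂ ⟶ S.X₂ := Injective.factorThru (φ ≫ S.f) S.f
  have hΦ : S.f ≫ Φ = φ ≫ S.f := Injective.comp_factorThru _ _
  obtain ⟨Φb, hΦb⟩ : ∃ b : S.X₃ ⟶ S.X₃, S.g ≫ b = Φ ≫ S.g := by
    haveI : Epi S.g := hS.epi_g
    exact ⟨hS.exact.desc (Φ ≫ S.g) (by rw [← Category.assoc, hΦ, Category.assoc, S.zero, comp_zero]),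
      hS.exact.g_desc _ _⟩
  let T : S ⟶ S := { τ₁ := φ, τ₂ := Φ, τ₃ := Φb, comm₁₂ := hΦ.symm, comm₂₃ := hΦb.symm }
  set xn := topEquiv F 1 x with hxn
  have hxφ : xn.comp (Ext.mk₀ φ) (add_zero 1) = xn := by rw [hxn, ← topEquiv_map, hx]
  obtain ⟨q0, hq0⟩ : ∃ q0 : Ext.{u} (Zsh (⊤ : X.Opens)) S.X₃ 0, q0.comp hS.extClass (zero_add 1) = xn :=
    Ext.covariant_sequence_exact₁ _ hS xn (Ext.eq_zero_of_injective _) (zero_add 1)
  obtain ⟨q, rfl⟩ := (Ext.mk₀_bijective _ _).2 q0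
  obtain ⟨w, hw⟩ : ∃ w : Zsh (⊤ : X.Opens) ⟶ S.X₂, w ≫ S.g = q ≫ Φb - q := by
    have h0 : (Ext.mk₀ (q ≫ Φb - q)).comp hS.extClass (zero_add 1) = 0 := by
      refine add_right_cancel (b := (Ext.mk₀ q).comp hS.extClass (zero_add 1)) ?_
      rw [zero_add, ← Ext.add_comp, ← Ext.mk₀_add, sub_add_cancel, ← Ext.mk₀_comp_mk₀,
        Ext.comp_assoc _ _ _ (zero_add 0) (zero_add 1) (show 0 + 0 + 1 = 1 by omega),
        ← ShortComplex.ShortExact.extClass_naturality hS hS T,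
        ← Ext.comp_assoc _ _ _ (zero_add 1) (add_zero 1) (show 0 + 1 + 0 = 1 by omega), hq0]
      exact hxφ
    obtain ⟨j, hj⟩ := Ext.covariant_sequence_exact₃ _ hS _ rfl h0
    obtain ⟨w, rfl⟩ := (Ext.mk₀_bijective _ _).2 j
    rw [Ext.mk₀_comp_mk₀] at hj
    exact ⟨w, (Ext.mk₀_bijective _ _).1 hj⟩
  have hlift : ∀ D : X.affineOpens, ∃ e : Zsh D.1 ⟶ S.X₂, e ≫ S.g = zmap le_top ≫ q := fun D => by
    haveI : Subsingleton (Ext.{u} (Zsh D.1) S.X₁ 1) := hvan D
    obtain ⟨j, hj⟩ := Ext.covariant_sequence_exact₃ _ hS (Ext.mk₀ (zmap (le_top : D.1 ≤ ⊤) ≫ q)) rfl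
      (Subsingleton.elim _ _)
    obtain ⟨e, rfl⟩ := (Ext.mk₀_bijective _ _).2 j
    rw [Ext.mk₀_comp_mk₀] at hj
    exact ⟨e, (Ext.mk₀_bijective _ _).1 hj⟩
  choose e he using hlift
  have hker : ∀ (U : X.Opens) (a : Zsh U ⟶ S.X₂), a ≫ S.g = 0 → ∃ b : Zsh U ⟶ F, b ≫ S.f = a :=
    fun U a ha => ⟨hS.exact.lift a ha, hS.exact.lift_f a ha⟩
  have hg0 : ∀ D : X.affineOpens, ∃ b : Zsh D.1 ⟶ F, b ≫ S.f = e D ≫ Φ - e D - zmap le_top ≫ w :=
    fun D => hker _ _ (by
      rw [Preadditive.sub_comp, Preadditive.sub_comp, Category.assoc, ← hΦb, ← Category.assoc, he,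
        Category.assoc, Category.assoc, hw, Preadditive.comp_sub, sub_self])
  choose g hg using hg0
  have hf0 : ∀ (D E : X.affineOpens) (h : D.1 ≤ E.1),
      ∃ b : Zsh D.1 ⟶ F, b ≫ S.f = zmap h ≫ e E - e D :=
    fun D E h => hker _ _ (by
      rw [Preadditive.sub_comp, Category.assoc, he, he, zmap_comp_assoc, sub_self])
  choose f hf using hf0
  have hgf : ∀ (D E : X.affineOpens) (h : D.1 ≤ E.1), zmap h ≫ g E - g D = f D E h ≫ φ - f D E h := by
    intro D E h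
    rw [← cancel_mono S.f, Preadditive.sub_comp, Preadditive.sub_comp, Category.assoc, Category.assoc,
      ← hΦ, ← Category.assoc (f D E h), hg, hg, hf, Preadditive.sub_comp, Preadditive.comp_sub,
      Preadditive.comp_sub, zmap_comp_assoc, Category.assoc]
    abel
  have hcc : ∀ (D E G : X.affineOpens) (h₁ : D.1 ≤ E.1) (h₂ : E.1 ≤ G.1),
      f D G (h₁.trans h₂) = zmap h₁ ≫ f E G h₂ + f D E h₁ := by
    intro D E G h₁ h₂
    rw [← cancel_mono S.f, Preadditive.add_comp, Category.assoc, hf, hf, hf, Preadditive.comp_sub,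
      zmap_comp_assoc]
    abel
  refine ⟨fun D => sect D.1 F (g D), fun D E h => sect D.1 F (f D E h), fun D E h => ?_,
    fun D E G h₁ h₂ => ?_, ?_⟩
  · have := congrArg (sect D.1 F) (hgf D E h)
    rw [map_sub, map_sub, sect_res, sect_comp] at this
    exact this
  · have := congrArg (sect D.1 F) (hcc D E G h₁ h₂)
    rw [map_add, sect_res] at this
    exact this
  rintro ⟨t, ht⟩
  obtain ⟨b, hb⟩ := exists_glue (fun D => e D - (sect D.1 F).symm (t D) ≫ S.f) fun D E h => by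
    have ht' : zmap h ≫ (sect E.1 F).symm (t E) = (sect D.1 F).symm (t D) + f D E h := by
      apply (sect D.1 F).injective
      rw [sect_res, map_add, AddEquiv.apply_symm_apply, AddEquiv.apply_symm_apply]
      exact sub_eq_iff_eq_add'.1 (ht D E h)
    rw [Preadditive.comp_sub, ← Category.assoc, ht', Preadditive.add_comp, hf]
    abel
  have hbq : b ≫ S.g = q := hom_ext_affine fun D hD => by
    rw [← Category.assoc, show zmap hD ≫ b = _ from hb D, Preadditive.sub_comp, Category.assoc, S.zero,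
      comp_zero, sub_zero, he]
  apply (topEquiv F 1).injective
  rw [map_zero, ← hxn, ← hq0, ← hbq, ← Ext.mk₀_comp_mk₀, Ext.comp_assoc_of_second_deg_zero,
    hS.comp_extClass, Ext.comp_zero]

end Groth.Agent.H27ArtSch
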