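import Groth.Agent.H27ArtSch.Algebra
import Groth.Prelude.Def_Pi1
import Mathlib

/-!
# The Artin–Schreier cover of a cocycle on the affine opens
-/

set_option autoImplicit false
set_option linter.style.haveILetI false
set_option linter.unusedSectionVars false
set_option backward.isDefEq.respectTransparency.types false
universe u

open CategoryTheory CategoryTheory.Limits AlgebraicGeometry TopologicalSpace Opposite

namespace Groth.Agent.H27ArtSch

variable {X : Scheme.{u}}

/-- Restriction of functions. -/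
noncomputable abbrev res {U V : X.Opens} (h : V ≤ U) : Γ(X, U) →+* Γ(X, V) :=
  (X.presheaf.map (homOfLE h).op).hom

theorem res_res {U V W : X.Opens} (h : V ≤ U) (h' : W ≤ V) (x : Γ(X, U)) :
    res h' (res h x) = res (h'.trans h) x :=
  congr($(X.presheaf.map_comp (homOfLE h).op (homOfLE h').op).hom x).symm

theorem res_self {U : X.Opens} (h : U ≤ U) (x : Γ(X, U)) : res h x = x :=
  congr($(X.presheaf.map_id (op U)).hom x)

/-- The square of affine opens seen as spectra. -/
theorem isoSpec_inv_homOfLE {U V : X.Opens} (hU : IsAffineOpen U) (hV : IsAffineOpen V) (h : V ≤ U) :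
    Spec.map (X.presheaf.map (homOfLE h).op) ≫ hU.isoSpec.inv = hV.isoSpec.inv ≫ X.homOfLE h := by
  rw [← cancel_mono U.ι, Category.assoc, Category.assoc, X.homOfLE_ι, hU.isoSpec_inv_ι, hV.isoSpec_inv_ι]
  exact hU.map_fromSpec hV (homOfLE h).op

theorem exists_cover (p : ℕ) [Fact p.Prime] (hchar : ∀ U : X.Opens, (p : Γ(X, U)) = 0)
    (g : ∀ D : X.affineOpens, Γ(X, D.1))
    (f : ∀ D E : X.affineOpens, D.1 ≤ E.1 → Γ(X, D.1))
    (hgf : ∀ (D E : X.affineOpens) (h : D.1 ≤ E.1), res h (g E) - g D = f D E h ^ p - f D E h)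
    (hf : ∀ (D E F : X.affineOpens) (h₁ : D.1 ≤ E.1) (h₂ : E.1 ≤ F.1),
      f D F (h₁.trans h₂) = res h₁ (f E F h₂) + f D E h₁) :
    ∃ Y : FEt.Cat X, Surjective Y.hom ∧ ∀ s : X ⟶ Y.left, s ≫ Y.hom = 𝟙 X →
      ∃ t : ∀ D : X.affineOpens, Γ(X, D.1), ∀ (D E : X.affineOpens) (h : D.1 ≤ E.1),
        res h (t E) - t D = f D E h := by
  classical
  have hf0 : ∀ D : X.affineOpens, f D D le_rfl = 0 := fun D => by
    have h := hf D D D le_rfl le_rfl
    rw [res_self] at h
    linear_combination -h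
  let R : X.affineOpens → CommRingCat.{u} := fun D => CommRingCat.of (AsAlg p (g D))
  let a : ∀ D : X.affineOpens, Γ(X, D.1) ⟶ R D := fun D => CommRingCat.ofHom (algebraMap _ _)
  let m : ∀ {D E : X.affineOpens}, D.1 ≤ E.1 → (R E ⟶ R D) := fun {D E} h =>
    CommRingCat.ofHom (asMap p (res h) (f D E h) (hchar D.1) (hgf D E h))
  have hm_id : ∀ D : X.affineOpens, m (le_refl D.1) = 𝟙 (R D) := fun D =>
    CommRingCat.hom_ext (hom_ext p (fun x => by
      show asMap p (res (le_refl D.1)) (f D D (le_refl D.1)) (hchar D.1) (hgf D D (le_refl D.1)) (algebraMap _ _ x) =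
        algebraMap _ (AsAlg p (g D)) x
      rw [asMap_algebraMap, res_self]) (by
      show asMap p (res (le_refl D.1)) (f D D (le_refl D.1)) (hchar D.1) (hgf D D (le_refl D.1)) (asRoot p (g D)) =
        asRoot p (g D)
      rw [asMap_root, hf0, map_zero, add_zero]))
  have hm_comp : ∀ {D E F : X.affineOpens} (h₁ : D.1 ≤ E.1) (h₂ : E.1 ≤ F.1),
      m h₂ ≫ m h₁ = m (h₁.trans h₂) := fun {D E F} h₁ h₂ =>
    CommRingCat.hom_ext (hom_ext p (fun x => by
      show asMap p (res h₁) (f D E h₁) (hchar D.1) (hgf D E h₁) (asMap p (res h₂) (f E F h₂) (hchar E.1) (hgf E F h₂) (algebraMap _ _ x)) =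
        asMap p (res (h₁.trans h₂)) (f D F (h₁.trans h₂)) (hchar D.1) (hgf D F (h₁.trans h₂)) (algebraMap _ _ x)
      rw [asMap_algebraMap, asMap_algebraMap, asMap_algebraMap, res_res]) (by
      show asMap p (res h₁) (f D E h₁) (hchar D.1) (hgf D E h₁) (asMap p (res h₂) (f E F h₂) (hchar E.1) (hgf E F h₂) (asRoot p (g F))) =
        asMap p (res (h₁.trans h₂)) (f D F (h₁.trans h₂)) (hchar D.1) (hgf D F (h₁.trans h₂)) (asRoot p (g F))
      rw [asMap_root, asMap_root, map_add, asMap_root, asMap_algebraMap, hf D E F h₁ h₂, map_add]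
      ring))
  let app : ∀ D : X.affineOpens, Spec (R D) ⟶ D.1.toScheme := fun D => Spec.map (a D) ≫ D.2.isoSpec.inv
  have hpb : ∀ {D E : X.affineOpens} (h : D.1 ≤ E.1),
      IsPullback (Spec.map (m h)) (app D) (app E) (X.homOfLE h) := fun {D E} h => by
    refine (isPullback_SpecMap_of_isPushout _ _ _ _
      (isPushout p (res h) (f D E h) (hchar D.1) (hgf D E h))).paste_vert ?_
    exact IsPullback.of_vert_isIso ⟨isoSpec_inv_homOfLE E.2 D.2 h⟩
  let F : X.directedAffineCover.I₀ ⥤ Scheme.{u} :=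
    { obj := fun D => Spec (R D)
      map := fun {D E} h => Spec.map (m (leOfHom h))
      map_id := fun D => by
        show Spec.map (m (le_refl D.1)) = 𝟙 _
        rw [hm_id, Spec.map_id]
      map_comp := fun {D E F} h₁ h₂ => by
        show Spec.map (m ((leOfHom h₁).trans (leOfHom h₂))) = Spec.map (m _) ≫ Spec.map (m _)
        rw [← Spec.map_comp, hm_comp] }
  let d : Scheme.Cover.RelativeGluingData X.directedAffineCover :=
    { functor := F
      natTrans :=
        { app := fun D => app D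
          naturality := fun D E h => by
            show Spec.map (m (leOfHom h)) ≫ app E = app D ≫ X.directedAffineCover.trans h
            rw [(hpb (leOfHom h)).w]
            congr 1 }
      equifibered := fun {D E} h => by
        have hh : X.directedAffineCover.trans h = X.homOfLE (leOfHom h) := rfl
        show IsPullback (Spec.map (m (leOfHom h))) (app D) (app E) (X.directedAffineCover.trans h)
        rw [hh]
        exact hpb _ }
  haveI : Quiver.IsThin X.directedAffineCover.I₀ := fun _ _ => inferInstance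
  haveI : Small.{u} X.directedAffineCover.I₀ := inferInstanceAs (Small.{u} X.affineOpens)
  haveI : ∀ {i j : X.directedAffineCover.I₀} (h : i ⟶ j), IsOpenImmersion (d.functor.map h) :=
    fun h => MorphismProperty.of_isPullback (d.equifibered h).flip inferInstance
  haveI : (d.functor ⋙ Scheme.forget).IsLocallyDirected :=
    Scheme.isLocallyDirected_of_equifibered_of_injective d.natTrans d.equifibered
      fun hij => (d.functor.map hij).injective
  haveI : HasColimit d.functor := inferInstance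
  have hprop : FEt.prop d.toBase := by
    have key : ∀ (Q : MorphismProperty Scheme.{u}) [IsZariskiLocalAtTarget Q],
        (∀ D, Q (app D)) → Q d.toBase := by
      intro Q _ hQ
      refine IsZariskiLocalAtTarget.of_openCover X.directedAffineCover fun D => ?_
      exact (Q.cancel_left_of_respectsIso (d.isPullback_natTrans_ι_toBase D).flip.isoPullback.hom _).mp
        ((d.isPullback_natTrans_ι_toBase D).flip.isoPullback_hom_snd.symm ▸ hQ D)
    refine ⟨key _ fun D => ?_, key _ fun D => ?_⟩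
    · haveI : IsFinite (Spec.map (a D)) := by
        rw [IsFinite.SpecMap_iff]
        exact RingHom.finite_algebraMap.mpr (finite p (g D))
      exact inferInstanceAs (IsFinite (Spec.map (a D) ≫ D.2.isoSpec.inv))
    · haveI : Etale (Spec.map (a D)) := by
        rw [HasRingHomProperty.Spec_iff (P := @Etale)]
        exact RingHom.etale_algebraMap.mpr (etale p (g D) (hchar D.1))
      exact inferInstanceAs (Etale (Spec.map (a D) ≫ D.2.isoSpec.inv))
  refine ⟨MorphismProperty.Over.mk ⊤ d.toBase hprop, ?_, ?_⟩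
  · -- the fibres are not empty
    refine ⟨fun x => ?_⟩
    obtain ⟨U, hU, hxU, -⟩ := exists_isAffineOpen_mem_and_subset (show x ∈ (⊤ : X.Opens) from trivial)
    have hne : Function.Surjective (Spec.map (a ⟨U, hU⟩)).base := by
      intro P
      letI : P.asIdeal.IsPrime := P.isPrime
      haveI : Module.Finite Γ(X, U) (AsAlg p (g ⟨U, hU⟩)) := finite p _
      haveI : Algebra.IsIntegral Γ(X, U) (AsAlg p (g ⟨U, hU⟩)) := Algebra.IsIntegral.of_finite _ _
      haveI : FaithfulSMul Γ(X, U) (AsAlg p (g ⟨U, hU⟩)) := by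
        rw [faithfulSMul_iff_algebraMap_injective]
        exact algebraMap_injective p _
      obtain ⟨Q, -, hQ⟩ := Ideal.exists_ideal_over_prime_of_isIntegral (S := AsAlg p (g ⟨U, hU⟩)) P.asIdeal ⊥
        (by rw [Ideal.comap_bot_of_injective _ (FaithfulSMul.algebraMap_injective _ _)]; exact bot_le)
      exact ⟨⟨Q, hQ.1⟩, PrimeSpectrum.ext hQ.2⟩
    obtain ⟨y, hy⟩ := hne (hU.isoSpec.hom ⟨x, hxU⟩)
    refine ⟨(colimit.ι d.functor ⟨U, hU⟩) y, ?_⟩
    show d.toBase _ = x
    rw [← Scheme.Hom.comp_apply, Scheme.Cover.RelativeGluingData.ι_toBase, Scheme.Hom.comp_apply]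
    show U.ι (hU.isoSpec.inv ((Spec.map (a ⟨U, hU⟩)) y)) = x
    rw [hy, ← Scheme.Hom.comp_apply hU.isoSpec.hom, Iso.hom_inv_id]
    rfl
  intro s hs
  have hs' : s ≫ d.toBase = 𝟙 X := hs
  let σ : ∀ D : X.affineOpens, D.1.toScheme ⟶ Spec (R D) := fun D =>
    (d.isPullback_natTrans_ι_toBase D).lift (𝟙 _) (D.1.ι ≫ s) (by
      show 𝟙 _ ≫ D.1.ι = (D.1.ι ≫ s) ≫ d.toBase
      rw [Category.assoc, hs', Category.comp_id, Category.id_comp])
  have hσ1 : ∀ D, σ D ≫ app D = 𝟙 _ := fun D => (d.isPullback_natTrans_ι_toBase D).lift_fst _ _ _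
  have hσ2 : ∀ D, σ D ≫ colimit.ι d.functor D = D.1.ι ≫ s := fun D =>
    (d.isPullback_natTrans_ι_toBase D).lift_snd _ _ _
  have hσc : ∀ {D E : X.affineOpens} (h : D.1 ≤ E.1), X.homOfLE h ≫ σ E = σ D ≫ Spec.map (m h) :=
    fun {D E} h => by
      have e : σ D ≫ Spec.map (m h) ≫ colimit.ι d.functor E = σ D ≫ colimit.ι d.functor D :=
        congrArg (σ D ≫ ·) (colimit.w d.functor (homOfLE h))
      rw [← cancel_mono (colimit.ι d.functor E), Category.assoc, Category.assoc]
      exact ((congrArg (X.homOfLE h ≫ ·) (hσ2 E)).trans (X.homOfLE_ι_assoc h s)).trans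
        (e.trans (hσ2 D)).symm
  let Ψ : ∀ D : X.affineOpens, R D ⟶ Γ(X, D.1) := fun D => Spec.preimage (D.2.isoSpec.inv ≫ σ D)
  have hΨ : ∀ D, Spec.map (Ψ D) = D.2.isoSpec.inv ≫ σ D := fun D => Spec.map_preimage _
  have hΨa : ∀ D, a D ≫ Ψ D = 𝟙 _ := fun D => Spec.map_injective (by
    rw [Spec.map_comp, Spec.map_id, hΨ, ← cancel_mono D.2.isoSpec.inv, Category.assoc, Category.assoc,
      Category.id_comp]
    show D.2.isoSpec.inv ≫ σ D ≫ app D = _
    rw [hσ1, Category.comp_id])
  have hΨc : ∀ {D E : X.affineOpens} (h : D.1 ≤ E.1), Ψ E ≫ X.presheaf.map (homOfLE h).op = m h ≫ Ψ D :=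
    fun {D E} h => Spec.map_injective (by
      rw [Spec.map_comp, Spec.map_comp, hΨ, hΨ, ← Category.assoc, isoSpec_inv_homOfLE E.2 D.2 h,
        Category.assoc, hσc h, Category.assoc])
  refine ⟨fun D => (Ψ D).hom (asRoot p (g D)), fun D E h => ?_⟩
  have h1 := congr($(hΨc h).hom (asRoot p (g E)))
  have h2 := congr($(hΨa D).hom (f D E h))
  have h1' : res h ((Ψ E).hom (asRoot p (g E))) =
      (Ψ D).hom (asMap p (res h) (f D E h) (hchar D.1) (hgf D E h) (asRoot p (g E))) := h1
  have h2' : (Ψ D).hom (algebraMap _ _ (f D E h)) = f D E h := h2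
  rw [asMap_root, map_add, h2'] at h1'
  rw [h1']
  ring

end Groth.Agent.H27ArtSch
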