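import Groth.Prelude.Def_W4c5isocrystsimpconnFrobH
import Groth.Agent.H10Coh.SchemeH
import Groth.Agent.H16Derived.KFlat.FinLocFree
import Groth.Agent.H16Derived.KFlat.LocalLift
import Groth.Agent.H22Alg.PullVb
import Groth.Agent.H8Props.RelPCBaseChange
import Mathlib

/-!
# Frobenius pullbacks of extensions by the structure sheaf
-/

set_option autoImplicit false
set_option linter.style.haveILetI false
set_option backward.isDefEq.respectTransparency.types false
universe u

open CategoryTheory CategoryTheory.Limits Opposite AlgebraicGeometry Abelian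

open Groth.Agent.H10Coh Groth.Agent.H16Derived.KFlat Groth.Agent.H16Derived.KFlat.Stalk

namespace Groth.Agent.H27ArtSch

attribute [local instance 10000] hasSheafifyAb hasWeakSheafifyAb hasExtAb enoughInjAb

noncomputable section

variable {X : Scheme.{u}} {p : ℕ} [Fact p.Prime] [FrobSch.IsCharP X p]

/-- The class of an extension of the structure sheaf. -/
def cls {A E : X.Modules} (i : A ⟶ E) (q : E ⟶ Coh.structureModule X) (w : i ≫ q = 0)
    (hS : (ShortComplex.mk i q w).ShortExact) : Coh.HH X A 1 :=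
  (topEquiv (sh A) 1).symm
    ((Ext.mk₀ ((sect ⊤ (sh (Coh.structureModule X))).symm (1 : Γ(X, ⊤)))).comp
      (shortExact_sh hS).extClass (zero_add 1))

/-- An extension with zero class splits. -/
theorem exists_section {A E : X.Modules} (i : A ⟶ E) (q : E ⟶ Coh.structureModule X) (w : i ≫ q = 0)
    (hS : (ShortComplex.mk i q w).ShortExact) (h0 : cls i q w hS = 0) :
    ∃ s : Coh.structureModule X ⟶ E, s ≫ q = 𝟙 _ := by
  have h0' := congrArg (topEquiv (sh A) 1) h0
  rw [cls, AddEquiv.apply_symm_apply, map_zero] at h0'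
  obtain ⟨j, hj⟩ := Ext.covariant_sequence_exact₃ _ (shortExact_sh hS) _ rfl h0'
  obtain ⟨e, rfl⟩ := (Ext.mk₀_bijective _ _).2 j
  rw [Ext.mk₀_comp_mk₀] at hj
  have he := congrArg (sect ⊤ _) ((Ext.mk₀_bijective _ _).1 hj)
  rw [sect_comp] at he
  replace he := he.trans ((sect ⊤ _).apply_symm_apply _)
  refine ⟨sectHom E (sect ⊤ (sh E) e), unit_hom_ext _ _ ?_⟩
  rw [Scheme.Modules.Hom.comp_app]
  show q.app ⊤ ((sectHom E (sect ⊤ (sh E) e)).app ⊤ (1 : Γ(X, ⊤))) = (1 : Γ(X, ⊤))
  rw [sectHom_app_top]
  exact he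

variable (p) in
/-- A map to a Frobenius pushforward as a map of abelian sheaves. -/
def pushHom {M N : X.Modules} (a : M ⟶ (Scheme.Modules.pushforward (FrobSch.frob X p)).obj N) :
    Coh.toAb M ⟶ Coh.toAb N :=
  ⟨{ app := fun U => AddCommGrpCat.ofHom
        (X := (Coh.toAb M).obj.obj U) (Y := (Coh.toAb N).obj.obj U) (a.app U.unop).hom
     naturality := fun U V g => by
       ext m
       exact congr($(((Scheme.Modules.toPresheaf X).map a).naturality g).hom m) }⟩

theorem pushHom_apply {M N : X.Modules} (a : M ⟶ (Scheme.Modules.pushforward (FrobSch.frob X p)).obj N)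
    (U : X.Opensᵒᵖ) (m : Γ(M, U.unop)) : (pushHom p a).hom.app U m = a.app U.unop m := rfl

theorem pushHom_comp_map {M N N' : X.Modules} (a : M ⟶ (Scheme.Modules.pushforward (FrobSch.frob X p)).obj N)
    (g : N ⟶ N') :
    pushHom p a ≫ (shF X).map g = pushHom p (a ≫ (Scheme.Modules.pushforward (FrobSch.frob X p)).map g) := by
  ext U m
  rfl

theorem map_comp_pushHom {M M' N : X.Modules} (g : M' ⟶ M)
    (a : M ⟶ (Scheme.Modules.pushforward (FrobSch.frob X p)).obj N) :
    (shF X).map g ≫ pushHom p a = pushHom p (g ≫ a) := by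
  ext U m
  rfl

variable (X p) in
/-- The pullback of the structure sheaf by Frobenius. -/
abbrev frobUnit : (Scheme.Modules.pullback (FrobSch.frob X p)).obj (Coh.structureModule X) ≅
    Coh.structureModule X :=
  H16Derived.KFlat.Stalk.structurePullbackIso (FrobSch.frob X p)

/-- The unit of the adjunction. -/
abbrev eta (M : X.Modules) : M ⟶ (Scheme.Modules.pushforward (FrobSch.frob X p)).obj
    ((Scheme.Modules.pullback (FrobSch.frob X p)).obj M) :=
  (Scheme.Modules.pullbackPushforwardAdjunction (FrobSch.frob X p)).unit.app M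

theorem pushHom_eta_frobUnit :
    pushHom p (eta (p := p) (Coh.structureModule X)) ≫ (shF X).map (frobUnit X p).hom =
      W4c5isocrystsimpconn.frobAb X p := by
  rw [pushHom_comp_map]
  have h : eta (p := p) (Coh.structureModule X) ≫
      (Scheme.Modules.pushforward (FrobSch.frob X p)).map (frobUnit X p).hom =
      SheafOfModules.unitToPushforwardObjUnit (FrobSch.frob X p).toRingCatSheafHom :=
    ((Scheme.Modules.pullbackPushforwardAdjunction (FrobSch.frob X p)).homEquiv_unit _ _ _).symm.trans
      (SheafOfModules.pullbackPushforwardAdjunction_homEquiv_pullbackObjUnitToUnit _)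
  rw [h]
  ext U m
  rfl

theorem eta_naturality {M N : X.Modules} (g : M ⟶ N) :
    (shF X).map g ≫ pushHom p (eta (p := p) N) =
      pushHom p (eta (p := p) M) ≫ (shF X).map ((Scheme.Modules.pullback (FrobSch.frob X p)).map g) := by
  rw [pushHom_comp_map, map_comp_pushHom]
  exact congrArg (pushHom p)
    ((Scheme.Modules.pullbackPushforwardAdjunction (FrobSch.frob X p)).unit.naturality g)

theorem map_frobUnit {A : X.Modules} (π : A ⟶ Coh.structureModule X) :
    pushHom p (eta (p := p) A) ≫
        (shF X).map ((Scheme.Modules.pullback (FrobSch.frob X p)).map π ≫ (frobUnit X p).hom) =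
      (shF X).map π ≫ W4c5isocrystsimpconn.frobAb X p := by
  rw [(shF X).map_comp, ← Category.assoc, ← eta_naturality, Category.assoc, pushHom_eta_frobUnit]

/-- One Frobenius pullback of an extension. -/
theorem exists_pullback_step {A E : X.Modules} (i : A ⟶ E) (q : E ⟶ Coh.structureModule X) (w : i ≫ q = 0)
    (hS : (ShortComplex.mk i q w).ShortExact) :
    ∃ (w' : (Scheme.Modules.pullback (FrobSch.frob X p)).map i ≫
        (Scheme.Modules.pullback (FrobSch.frob X p)).map q ≫ (frobUnit X p).hom = 0)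
      (hS' : (ShortComplex.mk ((Scheme.Modules.pullback (FrobSch.frob X p)).map i)
        ((Scheme.Modules.pullback (FrobSch.frob X p)).map q ≫ (frobUnit X p).hom) w').ShortExact),
      cls _ _ w' hS' = Sheaf.H.map (pushHom p (eta (p := p) A)) 1 (cls i q w hS) := by
  let T := Scheme.Modules.pullback (FrobSch.frob X p)
  have w' : T.map i ≫ T.map q ≫ (frobUnit X p).hom = 0 := by
    rw [← Category.assoc, ← T.map_comp, w, T.map_zero, zero_comp]
  have hT := H22Alg.KModel.shortExact_pullback (FrobSch.frob X p) hS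
    (H8Props.RelPC.isFinLocFree_structure X)
  have hS' : (ShortComplex.mk (T.map i) (T.map q ≫ (frobUnit X p).hom) w').ShortExact :=
    ShortComplex.shortExact_of_iso
      (ShortComplex.isoMk (S₁ := (ShortComplex.mk i q w).map T) (Iso.refl _) (Iso.refl _) (frobUnit X p)
        (by simp only [ShortComplex.map_f, Iso.refl_hom, Category.id_comp, Category.comp_id]; rfl)
        (by simp only [ShortComplex.map_g, Iso.refl_hom, Category.id_comp]; rfl)) hT
  refine ⟨w', hS', ?_⟩
  let ψ : (ShortComplex.mk i q w).map (shF X) ⟶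
      (ShortComplex.mk (T.map i) (T.map q ≫ (frobUnit X p).hom) w').map (shF X) :=
    { τ₁ := pushHom p (eta (p := p) A)
      τ₂ := pushHom p (eta (p := p) E)
      τ₃ := W4c5isocrystsimpconn.frobAb X p
      comm₁₂ := (eta_naturality i).symm
      comm₂₃ := map_frobUnit q }
  apply (topEquiv (sh (T.obj A)) 1).injective
  rw [topEquiv_map, cls, cls, AddEquiv.apply_symm_apply, AddEquiv.apply_symm_apply]
  refine Eq.symm ((Ext.comp_assoc _ _ _ (zero_add 1) (add_zero 1) (show 0 + 1 + 0 = 1 by omega)).trans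
    ((congrArg (fun z => (Ext.mk₀ _).comp z (zero_add 1))
      (ShortComplex.ShortExact.extClass_naturality (shortExact_sh hS) (shortExact_sh hS') ψ)).trans ?_))
  refine (Ext.mk₀_comp_mk₀_assoc _ _ _).trans ?_
  congr 2
  apply (sect ⊤ _).injective
  have hone : ∀ y : (sh (Coh.structureModule X)).obj.obj (op ⊤), y = (1 : Γ(X, ⊤)) →
      (W4c5isocrystsimpconn.frobAb X p).hom.app (op ⊤) y = y := fun y hy => by
    subst hy
    exact one_pow (M := Γ(X, ⊤)) p
  exact (sect_comp _ _).trans (hone _ ((sect ⊤ (sh (Coh.structureModule X))).apply_symm_apply _))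

/-- Iterated Frobenius pullback of an extension, with the components of its class. -/
theorem exists_iterate (j : ℕ) : ∀ {A E : X.Modules} (i : A ⟶ E) (q : E ⟶ Coh.structureModule X) (w : i ≫ q = 0)
    (hS : (ShortComplex.mk i q w).ShortExact) {J : Type} [Fintype J] (π : J → (A ⟶ Coh.structureModule X))
    (ι : J → (Coh.structureModule X ⟶ A)),
    ∃ (i' : (Scheme.Modules.pullback (FrobSch.frob X p)).obj^[j] A ⟶
        (Scheme.Modules.pullback (FrobSch.frob X p)).obj^[j] E)
      (q' : (Scheme.Modules.pullback (FrobSch.frob X p)).obj^[j] E ⟶ Coh.structureModule X)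
      (w' : i' ≫ q' = 0) (hS' : (ShortComplex.mk i' q' w').ShortExact)
      (π' : J → ((Scheme.Modules.pullback (FrobSch.frob X p)).obj^[j] A ⟶ Coh.structureModule X))
      (ι' : J → (Coh.structureModule X ⟶ (Scheme.Modules.pullback (FrobSch.frob X p)).obj^[j] A)),
      (∑ a, π a ≫ ι a = 𝟙 A → ∑ a, π' a ≫ ι' a = 𝟙 _) ∧
        ∀ a, Sheaf.H.map ((shF X).map (π' a)) 1 (cls i' q' w' hS') =
          (W4c5isocrystsimpconn.frobH X p 1)^[j] (Sheaf.H.map ((shF X).map (π a)) 1 (cls i q w hS)) := by
  induction j with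
  | zero => exact fun i q w hS J _ π ι => ⟨i, q, w, hS, π, ι, id, fun a => rfl⟩
  | succ j ih =>
    intro A E i q w hS J _ π ι
    obtain ⟨w₁, hS₁, hc⟩ := exists_pullback_step (p := p) i q w hS
    let T := Scheme.Modules.pullback (FrobSch.frob X p)
    obtain ⟨i', q', w', hS', π', ι', hsum, hc'⟩ := ih (T.map i) (T.map q ≫ (frobUnit X p).hom) w₁ hS₁
      (fun a => T.map (π a) ≫ (frobUnit X p).hom) (fun a => (frobUnit X p).inv ≫ T.map (ι a))
    refine ⟨i', q', w', hS', π', ι', fun h => hsum ?_, fun a => (hc' a).trans ?_⟩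
    · simp only [Category.assoc, Iso.hom_inv_id_assoc, ← T.map_comp, ← T.map_sum, h, T.map_id]
    · rw [Function.iterate_succ_apply, hc, ← Sheaf.H.map_comp_apply, map_frobUnit,
        Sheaf.H.map_comp_apply]
      rfl

/-- An extension whose components are killed by `b` Frobenius pullbacks becomes split. -/
theorem nonempty_iso_biprod (b : ℕ)
    (hb : ∀ x : Coh.HH X (Coh.structureModule X) 1, (W4c5isocrystsimpconn.frobH X p 1)^[b] x = 0)
    {A E : X.Modules} (i : A ⟶ E) (q : E ⟶ Coh.structureModule X) (w : i ≫ q = 0)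
    (hS : (ShortComplex.mk i q w).ShortExact) {J : Type} [Fintype J] (π : J → (A ⟶ Coh.structureModule X))
    (ι : J → (Coh.structureModule X ⟶ A)) (hsum : ∑ a, π a ≫ ι a = 𝟙 A) :
    Nonempty ((Scheme.Modules.pullback (FrobSch.frob X p)).obj^[b] E ≅
      (Scheme.Modules.pullback (FrobSch.frob X p)).obj^[b] A ⊞ Coh.structureModule X) := by
  obtain ⟨i', q', w', hS', π', ι', hsum', hc⟩ := exists_iterate (p := p) b i q w hS π ι
  have hcls : cls i' q' w' hS' = 0 := by
    let Φ : ((Scheme.Modules.pullback (FrobSch.frob X p)).obj^[b] A ⟶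
        (Scheme.Modules.pullback (FrobSch.frob X p)).obj^[b] A) →+
        Coh.HH X ((Scheme.Modules.pullback (FrobSch.frob X p)).obj^[b] A) 1 :=
      AddMonoidHom.mk' (fun g => Sheaf.H.map ((shF X).map g) 1 (cls i' q' w' hS')) fun g g' => by
        rw [Functor.map_add, Sheaf.H.map_add_apply]
    have h1 : Φ (∑ a, π' a ≫ ι' a) = cls i' q' w' hS' := by
      rw [hsum' hsum]
      show Sheaf.H.map ((shF X).map (𝟙 _)) 1 _ = _
      rw [CategoryTheory.Functor.map_id, Sheaf.H.map_id_apply]
    rw [← h1, map_sum]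
    refine Finset.sum_eq_zero fun a _ => ?_
    show Sheaf.H.map ((shF X).map (π' a ≫ ι' a)) 1 _ = 0
    rw [(shF X).map_comp, Sheaf.H.map_comp_apply, hc, hb, map_zero]
  obtain ⟨s, hs⟩ := exists_section i' q' w' hS' hcls
  haveI : Mono (ShortComplex.mk i' q' w').f := hS'.mono_f
  exact ⟨(ShortComplex.Splitting.ofExactOfSection _ hS'.exact s hs inferInstance).isoBinaryBiproduct⟩

/-- One more copy of the structure sheaf. -/
def freeModSuccIso (n : ℕ) : FlatMod.freeMod X n ⊞ Coh.structureModule X ≅ FlatMod.freeMod X (n + 1) where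
  hom := biprod.desc (Sigma.desc fun i => Sigma.ι (fun _ : Fin (n + 1) => Coh.structureModule X) i.castSucc)
    (Sigma.ι (fun _ : Fin (n + 1) => Coh.structureModule X) (Fin.last n))
  inv := Sigma.desc (Fin.lastCases biprod.inr fun i =>
    Sigma.ι (fun _ : Fin n => Coh.structureModule X) i ≫ biprod.inl)
  hom_inv_id := by
    refine biprod.hom_ext' _ _ (Sigma.hom_ext _ _ fun i => ?_) ?_
    · simp
    · simp
  inv_hom_id := Sigma.hom_ext _ _ fun i => by
    refine Fin.lastCases ?_ (fun j => ?_) i <;> simp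

/-- Iterated pullbacks of a free module are free. -/
theorem nonempty_iterate_freeMod (n b : ℕ) :
    Nonempty ((Scheme.Modules.pullback (FrobSch.frob X p)).obj^[b] (FlatMod.freeMod X n) ≅ FlatMod.freeMod X n) := by
  induction b with
  | zero => exact ⟨Iso.refl _⟩
  | succ b ih =>
    obtain ⟨e⟩ := ih
    rw [Function.iterate_succ_apply']
    exact ⟨(Scheme.Modules.pullback (FrobSch.frob X p)).mapIso e ≪≫
      H16Derived.KFlat.Stalk.freeModPullbackIso _ n⟩

theorem nonempty_iterate_congr {A B : X.Modules} (e : A ≅ B) (b : ℕ) :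
    Nonempty ((Scheme.Modules.pullback (FrobSch.frob X p)).obj^[b] A ≅
      (Scheme.Modules.pullback (FrobSch.frob X p)).obj^[b] B) := by
  induction b with
  | zero => exact ⟨e⟩
  | succ b ih =>
    obtain ⟨e'⟩ := ih
    rw [Function.iterate_succ_apply', Function.iterate_succ_apply']
    exact ⟨(Scheme.Modules.pullback (FrobSch.frob X p)).mapIso e'⟩

/-- An iterated extension becomes free. -/
theorem iterExt_iso_free (b : ℕ)
    (hb : ∀ x : Coh.HH X (Coh.structureModule X) 1, (W4c5isocrystsimpconn.frobH X p 1)^[b] x = 0) :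
    ∀ (n : ℕ) (E : X.Modules), W4c5isocrystsimpconn.IsIterExt X n E →
      Nonempty ((Scheme.Modules.pullback (FrobSch.frob X p)).obj^[b * (n - 1)] E ≅ FlatMod.freeMod X n) := by
  intro n
  induction n with
  | zero =>
    intro E hE
    refine ⟨(show IsZero E from hE).iso ?_⟩
    rw [IsZero.iff_id_eq_zero]
    exact Sigma.hom_ext _ _ fun i => i.elim0
  | succ n ih =>
    rintro E ⟨E', i, q, w, hE', hS⟩
    obtain ⟨e⟩ := ih E' hE'
    rcases Nat.eq_zero_or_pos n with rfl | hn
    · haveI : Mono q := hS.exact.mono_g (IsZero.eq_of_src hE' _ _)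
      haveI : Epi q := hS.epi_g
      haveI : IsIso q := isIso_of_mono_of_epi q
      haveI : IsIso (Sigma.ι (fun _ : Fin 1 => Coh.structureModule X) 0) :=
        ⟨Sigma.desc (fun _ => 𝟙 _), Sigma.ι_desc _ _, Sigma.hom_ext _ _ fun c => by
          obtain rfl := Subsingleton.elim c 0
          simp⟩
      rw [Nat.zero_add, Nat.sub_self, Nat.mul_zero, Function.iterate_zero_apply]
      exact ⟨asIso q ≪≫ asIso (Sigma.ι (fun _ : Fin 1 => Coh.structureModule X) 0)⟩
    obtain ⟨i', q', w', hS', -, -, -, -⟩ :=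
      exists_iterate (p := p) (b * (n - 1)) i q w hS (J := Empty) Empty.elim Empty.elim
    classical
    have hid : ∑ a : Fin n, (Sigma.desc fun c : Fin n =>
          if c = a then 𝟙 (Coh.structureModule X) else 0) ≫
        Sigma.ι (fun _ : Fin n => Coh.structureModule X) a = 𝟙 _ :=
      Sigma.hom_ext _ _ fun c => by
        simp [Preadditive.comp_sum, ite_comp]
    obtain ⟨e₂⟩ := nonempty_iso_biprod b hb i' q' w' hS'
      (fun a => e.hom ≫ Sigma.desc fun c : Fin n => if c = a then 𝟙 (Coh.structureModule X) else 0)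
      (fun a => Sigma.ι (fun _ : Fin n => Coh.structureModule X) a ≫ e.inv) (by
        have h := congrArg (fun g => e.hom ≫ g ≫ e.inv) hid
        simpa [Preadditive.comp_sum, Preadditive.sum_comp] using h)
    obtain ⟨e₃⟩ := nonempty_iterate_congr (p := p) e b
    obtain ⟨e₄⟩ := nonempty_iterate_freeMod (X := X) (p := p) n b
    rw [show b * (n + 1 - 1) = b + b * (n - 1) by
      rw [Nat.add_sub_cancel, Nat.mul_sub_one]
      have := Nat.le_mul_of_pos_right b hn
      omega, Function.iterate_add_apply]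
    exact ⟨e₂ ≪≫ biprod.mapIso (e₃ ≪≫ e₄) (Iso.refl _) ≪≫ freeModSuccIso n⟩

end

end Groth.Agent.H27ArtSch
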