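import Groth.Prelude.Def_W4c5isocrystsimpconnFrobH
import Groth.Agent.H27ArtSch.Cover
import Groth.Agent.H27ArtSch.Cocycle
import Groth.Agent.H27Misc.SemilinearFitting
import Groth.Agent.H26Misc.SigmaLinField
import Groth.Agent.H10Coh.Proper
import Mathlib

/-!
# Frobenius is nilpotent on `H¹` of a simply connected proper scheme
-/

set_option autoImplicit false
set_option linter.style.haveILetI false
set_option backward.isDefEq.respectTransparency.types false
universe u

open CategoryTheory CategoryTheory.Limits Opposite AlgebraicGeometry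

open Groth.Agent.H10Coh

namespace Groth.Agent.H27ArtSch

section Field

open Polynomial

variable (p : ℕ) [hp : Fact p.Prime] (k : Type u) [Field k] [IsAlgClosed k] [CharP k p]

theorem exists_root_sub (c : k) : ∃ y : k, frobenius k p y - y + c = 0 := by
  have hdeg : ((X : k[X]) ^ p - (X - C c)).degree = (p : WithBot ℕ) := by
    rw [degree_sub_eq_left_of_degree_lt (by rw [degree_X_sub_C, degree_X_pow]; exact_mod_cast hp.out.one_lt),
      degree_X_pow]
  obtain ⟨y, hy⟩ := IsAlgClosed.exists_root (X ^ p - (X - C c)) (by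
    rw [hdeg]; exact_mod_cast hp.out.ne_zero)
  refine ⟨y, ?_⟩
  simp only [IsRoot, eval_sub, eval_pow, eval_X, eval_C] at hy
  rw [frobenius_def]
  linear_combination hy

theorem exists_twisted_root (n : ℕ) (b : Fin (n + 1) → k) (hb : b ≠ 0) :
    ∃ x : k, x ≠ 0 ∧ x = ∑ i : Fin (n + 1),
      (⇑(frobenius k p))^[i.val + 1] x * (⇑(frobenius k p))^[i.val] (b (Fin.rev i)) := by
  classical
  let e : Fin (n + 1) → ℕ := fun i => p ^ (i.val + 1) - 1
  have hle : ∀ i : Fin (n + 1), 2 ≤ p ^ (i.val + 1) := fun i =>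
    hp.out.two_le.trans (Nat.le_self_pow (Nat.succ_ne_zero _) p)
  let c : Fin (n + 1) → k := fun i => b (Fin.rev i) ^ p ^ i.val
  let P : k[X] := (∑ i, C (c i) * X ^ e i) - 1
  obtain ⟨j, hj⟩ : ∃ j, c j ≠ 0 := by
    obtain ⟨j, hj⟩ := Function.ne_iff.1 hb
    exact ⟨Fin.rev j, pow_ne_zero _ (by rwa [Fin.rev_rev])⟩
  have he : Function.Injective e := fun i i' h => by
    have h1 := hle i
    have h2 := hle i'
    have h3 : p ^ (i.val + 1) = p ^ (i'.val + 1) := by simp only [e] at h; omega
    exact Fin.ext (Nat.succ_injective (Nat.pow_right_injective hp.out.two_le h3))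
  have hcoeff : P.coeff (e j) = c j := by
    have h0 : e j ≠ 0 := by have := hle j; simp only [e]; omega
    simp only [P, coeff_sub, finsetSum_coeff, coeff_C_mul, coeff_X_pow, coeff_one, if_neg h0, sub_zero,
      mul_ite, mul_one, mul_zero]
    rw [Finset.sum_eq_single j (fun i _ hi => if_neg fun h => hi (he h).symm) (fun h => absurd (Finset.mem_univ j) h),
      if_pos rfl]
  obtain ⟨x, hx⟩ := IsAlgClosed.exists_root P (by
    intro h
    have h1 : e j ≤ P.natDegree := le_natDegree_of_ne_zero (by rwa [hcoeff])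
    rw [natDegree_eq_zero_iff_degree_le_zero.2 h.le] at h1
    have := hle j
    simp only [e] at h1
    omega)
  simp only [IsRoot, P, eval_sub, eval_finsetSum, eval_mul, eval_C, eval_pow, eval_X, eval_one,
    sub_eq_zero] at hx
  refine ⟨x, ?_, ?_⟩
  · rintro rfl
    refine zero_ne_one (α := k) (Eq.trans ?_ hx)
    refine (Finset.sum_eq_zero fun i _ => ?_).symm
    rw [zero_pow (by have := hle i; simp only [e]; omega), mul_zero]
  · conv_lhs => rw [← one_mul x, ← hx, Finset.sum_mul]
    refine Finset.sum_congr rfl fun i _ => ?_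
    rw [iterate_frobenius, iterate_frobenius, mul_assoc, ← pow_succ,
      show e i + 1 = p ^ (i.val + 1) by have := hle i; simp only [e]; omega, mul_comm]

/-- A semilinear map without a nonzero fixed vector is nilpotent. -/
theorem exists_iterate_eq_zero {V : Type u} [AddCommGroup V] [Module k V] [FiniteDimensional k V]
    (T : V →ₛₗ[frobenius k p] V) (h : ∀ v, T v = v → v = 0) : ∃ r : ℕ, ∀ v, (⇑T)^[r] v = 0 := by
  obtain ⟨Ms, Mn, hc, hTs, -, hbij, r, hr⟩ :=
    H27Misc.fitting_semilinear (frobenius k p) (bijective_frobenius k p).surjective T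
  refine ⟨r, fun v => hr v ?_⟩
  have hbot : Ms = ⊥ := by
    by_contra hne
    let T' : Ms →ₛₗ[frobenius k p] Ms :=
      { toFun := fun w => ⟨T w, hTs w.2⟩
        map_add' := fun a b => Subtype.ext (map_add T _ _)
        map_smul' := fun a b => Subtype.ext (LinearMap.map_smulₛₗ T _ _) }
    have h1 : Submodule.span k (Set.range ⇑T') = ⊤ := by
      have hs : Function.Surjective T' := fun w => by
        obtain ⟨z, hz, hzw⟩ := hbij.surjOn w.2
        exact ⟨⟨z, hz⟩, Subtype.ext hzw⟩
      rw [hs.range_eq, Submodule.span_univ]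
    obtain ⟨B, hB⟩ := H26Misc.exists_fixed_basis T' h1 (exists_twisted_root p k) (exists_root_sub p k)
    have hpos : 0 < Module.finrank k Ms := by
      rw [Nat.pos_iff_ne_zero]
      exact fun h0 => hne (Submodule.finrank_eq_zero.1 h0)
    exact B.ne_zero ⟨0, hpos⟩ (Subtype.ext (h _ (congrArg Subtype.val (hB ⟨0, hpos⟩))))
  have : Mn = ⊤ := eq_top_of_bot_isCompl (hbot ▸ hc)
  rw [this]
  exact Submodule.mem_top

end Field

variable {X : Scheme.{u}} (p : ℕ) [Fact p.Prime] [FrobSch.IsCharP X p]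

theorem frobAb_smulAb (r : Coh.Γtop X) :
    Coh.smulAb (Coh.structureModule X) r ≫ W4c5isocrystsimpconn.frobAb X p =
      W4c5isocrystsimpconn.frobAb X p ≫ Coh.smulAb (Coh.structureModule X) (r ^ p) := by
  ext U m
  change (@HMul.hMul Γ(X, U.unop) Γ(X, U.unop) _ _ (Coh.resTop X U r) m) ^ p =
    @HMul.hMul Γ(X, U.unop) Γ(X, U.unop) _ _ (Coh.resTop X U (r ^ p)) ((show Γ(X, U.unop) from m) ^ p)
  rw [map_pow]
  exact mul_pow _ _ _

/-- Fixed classes vanish. -/
theorem eq_zero_of_fixed [ConnectedSpace X] (hπ : ∀ Y : FEt.Cat X, Pi1.IsSplit Y)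
    (x : Coh.HH X (Coh.structureModule X) 1) (hx : W4c5isocrystsimpconn.frobH X p 1 x = x) : x = 0 := by
  haveI : (Coh.structureModule X).IsQuasicoherent := (isCoh_structureModule' X).1
  obtain ⟨g, f, hgf, hf, hfin⟩ := exists_cocycle (sh (Coh.structureModule X)) (W4c5isocrystsimpconn.frobAb X p)
    (fun D => subsingleton_HnM_of_isAffineOpen (Coh.structureModule X) D.2 0) x hx
  obtain ⟨Y, hY, hsec⟩ := exists_cover p (fun U => FrobSch.natCast_eq_zero_app X p U) g f hgf hf
  obtain ⟨ι, _, e, he⟩ := hπ Y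
  obtain ⟨i⟩ : Nonempty ι := by
    obtain ⟨y, -⟩ := hY.surj (Classical.arbitrary X)
    obtain ⟨i, -⟩ := (sigmaOpenCover fun _ : ι => X).exists_eq (e.hom y)
    exact ⟨i⟩
  obtain ⟨t, ht⟩ := hsec (Sigma.ι (fun _ : ι => X) i ≫ e.inv) (by rw [Category.assoc]; exact he i)
  exact hfin ⟨t, ht⟩

end Groth.Agent.H27ArtSch
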